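import Groth.Prelude.Def_NonAbH2
import Mathlib.CategoryTheory.Limits.Shapes.Pullback.IsPullback.Basic

/-!
# A criterion for the scheme-level exactness of a sequence of group schemes
-/

set_option autoImplicit false

universe u

open CategoryTheory CategoryTheory.Limits MonoidalCategory CartesianMonoidalCategory MonObj AlgebraicGeometry

namespace Groth.Agent.H80.Fpqc

variable {S : Scheme.{u}} {G' G G'' : Over S} [GrpObj G'] [GrpObj G] [GrpObj G'']

theorem isExactSeq_of_points (K : Precoverage Scheme.{u}) (u : G' ⟶ G) (v : G ⟶ G'') [IsMonHom u] [IsMonHom v]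
    (huv : u ≫ v = 1)
    (hex : ∀ (T : Over S) (d : T ⟶ G), d ≫ v = 1 → ∃ z : T ⟶ G', z ≫ u = d)
    (hinj : ∀ (T : Over S) (z z' : T ⟶ G'), z ≫ u = z' ≫ u → z = z')
    (hloc : NonAbH1.IsLocallyTrivialFor K (Over.mk v.left : Over G''.left)) :
    NonAbH1.IsExactSeq K u v := by
  have hμ : (G ◁ u) ≫ μ[G] = fst G G' * (snd G G' ≫ u) := by
    rw [Hom.mul_def]
    congr 1
  have comm : fst G G' ≫ v = ((G ◁ u) ≫ μ[G]) ≫ v := by
    rw [hμ, MonObj.mul_comp, Category.assoc, huv, MonObj.comp_one, _root_.mul_one]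
  have key : ∀ {T : Over S} (m : T ⟶ G ⊗ G'),
      m ≫ (G ◁ u) ≫ μ[G] = (m ≫ fst G G') * ((m ≫ snd G G') ≫ u) := fun m => by
    rw [hμ, MonObj.comp_mul, Category.assoc]
  have hd : ∀ s : PullbackCone v v, (s.fst⁻¹ * s.snd) ≫ v = 1 := fun s => by
    rw [MonObj.mul_comp, GrpObj.inv_comp, s.condition, inv_mul_cancel]
  refine ⟨inferInstance, inferInstance, huv, ⟨⟨comm⟩, ⟨?_⟩⟩, hloc⟩
  refine PullbackCone.IsLimit.mk comm
    (fun s => lift s.fst (hex s.pt _ (hd s)).choose) (fun s => lift_fst _ _) (fun s => ?_)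
    (fun s m h₁ h₂ => ?_)
  · rw [key, lift_fst, lift_snd, (hex s.pt _ (hd s)).choose_spec, mul_inv_cancel_left]
  · refine CartesianMonoidalCategory.hom_ext _ _ (h₁.trans (lift_fst _ _).symm) ?_
    rw [lift_snd]
    refine hinj _ _ _ ?_
    rw [(hex s.pt _ (hd s)).choose_spec, ← h₁, ← h₂, key, inv_mul_cancel_left]

end Groth.Agent.H80.Fpqc
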