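import Mathlib.AlgebraicGeometry.Sites.Fpqc
import Mathlib.AlgebraicGeometry.Morphisms.FinitePresentation
import Mathlib.AlgebraicGeometry.Morphisms.Finite
import Mathlib.RingTheory.AdjoinRoot
import Mathlib.RingTheory.Flat.FaithfullyFlat.Algebra

/-!
# Covers adjoining a root of a monic polynomial over the global functions
-/

set_option autoImplicit false
set_option backward.isDefEq.respectTransparency false

universe u

open CategoryTheory CategoryTheory.Limits AlgebraicGeometry

namespace Groth.Agent.H80.Fpqc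

theorem exists_root_cover (X : Scheme.{u}) (f : Polynomial Γ(X, ⊤)) (hf : f.Monic)
    (hd : f.natDegree ≠ 0) :
    ∃ (Z : Scheme.{u}) (g : Z ⟶ X), Presieve.singleton g ∈ Scheme.fppfPrecoverage X ∧
      Presieve.singleton g ∈ Scheme.fpqcPrecoverage X ∧
      ∃ w : Γ(Z, ⊤), Polynomial.eval₂ g.appTop.hom w f = 0 := by
  rcases subsingleton_or_nontrivial Γ(X, ⊤) with hX | hX
  · exact absurd (by rw [Subsingleton.elim f 0, Polynomial.natDegree_zero]) hd
  have := hf.free_adjoinRoot
  have := hf.finite_adjoinRoot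
  have : Nontrivial (AdjoinRoot f) :=
    Ideal.Quotient.nontrivial_iff.mpr fun h => hd (hf.natDegree_eq_zero.mpr
      (hf.eq_one_of_isUnit (Ideal.span_singleton_eq_top.mp h)) )
  have : Module.FaithfullyFlat Γ(X, ⊤) (AdjoinRoot f) := inferInstance
  let i : Γ(X, ⊤) ⟶ CommRingCat.of (AdjoinRoot f) := CommRingCat.ofHom (algebraMap Γ(X, ⊤) (AdjoinRoot f))
  have : Flat (Spec.map i) := (HasRingHomProperty.Spec_iff (P := @Flat)).mpr
    (RingHom.flat_algebraMap_iff.mpr inferInstance)
  have : Surjective (Spec.map i) :=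
    ⟨PrimeSpectrum.comap_surjective_of_faithfullyFlat (A := Γ(X, ⊤)) (B := AdjoinRoot f)⟩
  have : IsFinite (Spec.map i) := (IsFinite.SpecMap_iff i).mpr (RingHom.finite_algebraMap.mpr inferInstance)
  have : LocallyOfFinitePresentation (Spec.map i) :=
    (HasRingHomProperty.Spec_iff (P := @LocallyOfFinitePresentation)).mpr
      (RingHom.finitePresentation_algebraMap.mpr inferInstance)
  let g := pullback.fst X.toSpecΓ (Spec.map i)
  refine ⟨pullback X.toSpecΓ (Spec.map i), g, Scheme.Hom.singleton_mem_fppfPrecoverage g,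
    Scheme.Hom.singleton_mem_fpqcPrecoverage g,
    ((Scheme.ΓSpecIso _).inv ≫ (pullback.snd X.toSpecΓ (Spec.map i)).appTop).hom (AdjoinRoot.root f), ?_⟩
  have hg : g.appTop = i ≫ (Scheme.ΓSpecIso _).inv ≫ (pullback.snd X.toSpecΓ (Spec.map i)).appTop := by
    have := congrArg (fun m => Scheme.Hom.appTop m) (pullback.condition (f := X.toSpecΓ) (g := Spec.map i))
    rw [Scheme.Hom.comp_appTop, Scheme.Hom.comp_appTop, Scheme.toSpecΓ_appTop] at this
    rw [← cancel_epi (Scheme.ΓSpecIso Γ(X, ⊤)).hom, this, ← Scheme.ΓSpecIso_naturality_assoc,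
      Iso.hom_inv_id_assoc]
  rw [hg, CommRingCat.hom_comp, ← Polynomial.hom_eval₂]
  change _ = (0 : Γ(_, ⊤))
  rw [show Polynomial.eval₂ i.hom (AdjoinRoot.root f) f = 0 from AdjoinRoot.eval₂_root f, map_zero]

end Groth.Agent.H80.Fpqc
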