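import Groth.Agent.H80.Fpqc.Exact
import Groth.Agent.H80.Fpqc.RootCover
import Groth.Agent.Lib.RedPts.Gm
import Mathlib.Data.ZMod.Basic
import Mathlib.Algebra.Group.TypeTags.Basic

/-!
# The Kummer sequence
-/

set_option autoImplicit false
set_option backward.isDefEq.respectTransparency false

universe u

open CategoryTheory CategoryTheory.Limits MonoidalCategory CartesianMonoidalCategory MonObj AlgebraicGeometry
open Groth.Agent.Lib.RedPts

namespace Groth.Agent.H80.Fpqc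

theorem kummer_isExactSeq {S : Scheme.{u}} (n : ℕ) (hn : 0 < n) (K : Precoverage Scheme.{u})
    (hK : ∀ {Z X : Scheme.{u}} (g : Z ⟶ X), Presieve.singleton g ∈ Scheme.fppfPrecoverage X →
      Presieve.singleton g ∈ Scheme.fpqcPrecoverage X → Presieve.singleton g ∈ K X) :
    NonAbH1.IsExactSeq K (Red.DSmap S (Int.castAddHom (ZMod n))) (Red.chi S (n : ℤ)) := by
  have hv : ∀ {T : Over S} (x : T ⟶ Red.Gm S), Red.gmFn (x ≫ Red.chi S (n : ℤ)) = Red.gmFn x ^ n := by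
    intro T x
    rw [Gm.gmFn_chi, show ((n : ℤ)) = n • (1 : ℤ) by simp, Gm.dsFn_nsmul, ← Gm.gmFn_eq]
  have hu : ∀ {T : Over S} (z : T ⟶ Red.DS S (ZMod n)),
      Red.gmFn (z ≫ Red.DSmap S (Int.castAddHom (ZMod n))) = Gm.dsFn z 1 := by
    intro T z
    rw [Gm.gmFn_eq, Gm.dsFn_DSmap]
    simp
  have : NeZero n := ⟨hn.ne'⟩
  have hgen : ∀ m : ZMod n, m = m.val • (1 : ZMod n) := fun m => by simp
  refine isExactSeq_of_points K _ _ ?_ ?_ ?_ ?_
  · refine Gm.gmFn_injective ?_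
    rw [hv, Gm.gmFn_one, ← Category.id_comp (Red.DSmap S (Int.castAddHom (ZMod n))), hu,
      ← Gm.dsFn_nsmul, show n • (1 : ZMod n) = 0 by simp, Gm.dsFn_zero]
  · intro T d hd
    have hpow : Red.gmFn d ^ n = 1 := by rw [← hv, hd, Gm.gmFn_one]
    let w : Γ(T.left, ⊤) := Red.gmFn d
    have hper : ∀ a : ℕ, w ^ (a % n) = w ^ a := fun a => by
      conv_rhs => rw [← Nat.mod_add_div a n, pow_add, pow_mul, hpow, one_pow, _root_.mul_one]
    let χ : Multiplicative (ZMod n) →* Γ(T.left, ⊤) :=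
      { toFun := fun m => w ^ (Multiplicative.toAdd m).val
        map_one' := by simp
        map_mul' := fun a b => by rw [toAdd_mul, ZMod.val_add, hper, pow_add] }
    refine ⟨Gm.dsPt χ, Gm.gmFn_injective ?_⟩
    rw [hu, Gm.dsFn_dsPt]
    change w ^ (1 : ZMod n).val = w
    rw [ZMod.val_one_eq_one_mod, hper, pow_one]
  · intro T z z' h
    refine Gm.dsFn_ext fun m => ?_
    rw [hgen m, Gm.dsFn_nsmul, Gm.dsFn_nsmul, ← hu, ← hu, h]
  · let X := (Red.Gm S).left
    let c : Γ(X, ⊤) := Red.gmFn (𝟙 (Red.Gm S))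
    rcases subsingleton_or_nontrivial Γ(X, ⊤) with hX | hX
    · have hid : Presieve.singleton (𝟙 X) ∈ K X := hK _ (by simp) (by simp)
      refine ⟨_, hid, ?_⟩
      rintro S' _ ⟨⟩
      refine ⟨𝟙 X, ?_⟩
      change 𝟙 X ≫ (Red.chi S (n : ℤ)).left = 𝟙 X
      rw [Category.id_comp]
      exact congrArg (fun m => m.left) (Gm.gmFn_injective (Subsingleton.elim _ _) :
        Red.chi S (n : ℤ) = 𝟙 (Red.Gm S))
    obtain ⟨Z, g, hg1, hg2, w, hw⟩ := exists_root_cover X (Polynomial.X ^ n - Polynomial.C c)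
      (Polynomial.monic_X_pow_sub_C _ hn.ne') (by rw [Polynomial.natDegree_X_pow_sub_C]; exact hn.ne')
    rw [Polynomial.eval₂_sub, Polynomial.eval₂_X_pow, Polynomial.eval₂_C, sub_eq_zero] at hw
    have hwu : IsUnit w := (isUnit_pow_iff hn.ne').mp
      (hw ▸ (Gm.isUnit_gmFn (𝟙 (Red.Gm S))).map _)
    refine ⟨_, hK g hg1 hg2, ?_⟩
    rintro S' _ ⟨⟩
    let T : Over S := Over.mk (g ≫ (Red.Gm S).hom)
    let h : T ⟶ Red.Gm S := Over.homMk g rfl
    have hh : Gm.gmPt hwu.unit ≫ Red.chi S (n : ℤ) = h := Gm.gmFn_injective (by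
      rw [hv, Gm.gmFn_gmPt, IsUnit.unit_spec]
      refine hw.trans ?_
      rw [← Category.comp_id h, Gm.gmFn_comp]
      rfl)
    exact ⟨(Gm.gmPt (X := T) hwu.unit).left, congrArg (fun m => m.left) hh⟩

end Groth.Agent.H80.Fpqc
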